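import Groth.Agent.Et18.Descent0.FiniteEtaleBasis
import Groth.Agent.Et18.StalkPush
import Groth.Agent.Et18.FinitePush
import Groth.Agent.EtLimit.HMaps
import Groth.Prelude.Def_EtCore

/-!
# Cohomology of a henselian local scheme and of its closed point
-/

set_option autoImplicit false
set_option linter.all false
set_option backward.isDefEq.respectTransparency.types false
set_option backward.isDefEq.respectTransparency false
set_option backward.defeqAttrib.useBackward true
set_option synthInstance.maxHeartbeats 400000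
set_option maxHeartbeats 800000

universe u

open CategoryTheory CategoryTheory.Limits AlgebraicGeometry Opposite CategoryTheory.Abelian

namespace Groth.Agent.Et18.Descent0

section Generic

universe v₁ u₁ v₂ u₂ w₁ w₂

variable {A : Type u₁} [Category.{v₁} A] [Abelian A] [HasExt.{w₁} A] [EnoughInjectives A]
  {B : Type u₂} [Category.{v₂} B] [Abelian B] [HasExt.{w₂} B]
  (P : A ⥤ B) [P.Additive] [PreservesFiniteLimits P] [PreservesFiniteColimits P]
  (Q : B ⥤ A) [Q.Additive] [PreservesFiniteLimits Q] [PreservesFiniteColimits Q]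

/-- Naturality of `Ext` in a transformation to the identity. -/
theorem ext_map_map_app (e : P ⋙ Q ⟶ 𝟭 A) {Z : A} (n : ℕ) :
    ∀ (G : A) (x : Ext.{w₁} Z G n),
      (Ext.mapExactFunctor.{w₂, w₁} Q (Ext.mapExactFunctor.{w₁, w₂} P x)).comp
          (Ext.mk₀ (e.app G)) (add_zero n) =
        (Ext.mk₀ (e.app Z)).comp x (zero_add n) := by
  induction n with
  | zero =>
    intro G x
    obtain ⟨g, rfl⟩ := (Ext.mk₀_bijective _ _).2 x
    rw [Ext.mapExactFunctor_mk₀, Ext.mapExactFunctor_mk₀, Ext.mk₀_comp_mk₀, Ext.mk₀_comp_mk₀]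
    exact congrArg Ext.mk₀ (e.naturality g)
  | succ n ih =>
    intro G x
    let S : ShortComplex A := ShortComplex.mk (Injective.ι G) (cokernel.π (Injective.ι G)) (by simp)
    have hS : S.ShortExact := { exact := ShortComplex.exact_cokernel (Injective.ι G) }
    obtain ⟨y, rfl⟩ := Ext.covariant_sequence_exact₁ Z hS x (Ext.eq_zero_of_injective _) rfl
    have hp : ((S.map P).map Q).ShortExact := (hS.map_of_exact P).map_of_exact Q
    let τ : (S.map P).map Q ⟶ S :=
      { τ₁ := e.app S.X₁
        τ₂ := e.app S.X₂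
        τ₃ := e.app S.X₃
        comm₁₂ := (e.naturality S.f).symm
        comm₂₃ := (e.naturality S.g).symm }
    have hτ : (Ext.mk₀ (e.app S.X₃)).comp hS.extClass (zero_add 1) =
        hp.extClass.comp (Ext.mk₀ (e.app S.X₁)) (add_zero 1) :=
      (ShortComplex.ShortExact.extClass_naturality hp hS τ).symm
    rw [Ext.mapExactFunctor_comp, Ext.mapExactFunctor_comp, Ext.mapExactFunctor_extClass,
      Ext.mapExactFunctor_extClass]
    rw [Ext.comp_assoc_of_third_deg_zero]
    erw [← hτ]
    rw [← Ext.comp_assoc_of_second_deg_zero, ih]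
    exact Ext.comp_assoc _ _ _ (zero_add n) rfl (by omega)

/-- Naturality of `Ext` in a transformation from the identity. -/
theorem ext_app_map_map (e : 𝟭 A ⟶ P ⋙ Q) {Z : A} (n : ℕ) :
    ∀ (G : A) (x : Ext.{w₁} Z G n),
      (Ext.mk₀ (e.app Z)).comp (Ext.mapExactFunctor.{w₂, w₁} Q (Ext.mapExactFunctor.{w₁, w₂} P x)) (zero_add n) =
        x.comp (Ext.mk₀ (e.app G)) (add_zero n) := by
  induction n with
  | zero =>
    intro G x
    obtain ⟨g, rfl⟩ := (Ext.mk₀_bijective _ _).2 x
    rw [Ext.mapExactFunctor_mk₀, Ext.mapExactFunctor_mk₀, Ext.mk₀_comp_mk₀, Ext.mk₀_comp_mk₀]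
    exact congrArg Ext.mk₀ (e.naturality g).symm
  | succ n ih =>
    intro G x
    let S : ShortComplex A := ShortComplex.mk (Injective.ι G) (cokernel.π (Injective.ι G)) (by simp)
    have hS : S.ShortExact := { exact := ShortComplex.exact_cokernel (Injective.ι G) }
    obtain ⟨y, rfl⟩ := Ext.covariant_sequence_exact₁ Z hS x (Ext.eq_zero_of_injective _) rfl
    have hp : ((S.map P).map Q).ShortExact := (hS.map_of_exact P).map_of_exact Q
    let τ : S ⟶ (S.map P).map Q :=
      { τ₁ := e.app S.X₁
        τ₂ := e.app S.X₂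
        τ₃ := e.app S.X₃
        comm₁₂ := (e.naturality S.f).symm
        comm₂₃ := (e.naturality S.g).symm }
    have hτ : (Ext.mk₀ (e.app S.X₃)).comp hp.extClass (zero_add 1) =
        hS.extClass.comp (Ext.mk₀ (e.app S.X₁)) (add_zero 1) :=
      (ShortComplex.ShortExact.extClass_naturality hS hp τ).symm
    rw [Ext.mapExactFunctor_comp, Ext.mapExactFunctor_comp, Ext.mapExactFunctor_extClass,
      Ext.mapExactFunctor_extClass]
    rw [← Ext.comp_assoc _ _ _ (zero_add n) rfl (by omega : 0 + n + 1 = n + 1), ih,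
      Ext.comp_assoc_of_second_deg_zero]
    erw [hτ]
    rw [Ext.comp_assoc_of_third_deg_zero]

variable (adj : P ⊣ Q) {Z : A} {Z' : B} (a : Z' ⟶ P.obj Z) [IsIso a]

include adj in
/-- For an adjunction of exact functors, pulling back followed by the counit is bijective on `Ext`. -/
theorem bijective_map_counit [EnoughInjectives B] (G : B) (n : ℕ) :
    Function.Bijective fun z : Ext.{w₁} Z (Q.obj G) n =>
      ((Ext.mk₀ a).comp (Ext.mapExactFunctor.{w₁, w₂} P z) (zero_add n)).comp
        (Ext.mk₀ (adj.counit.app G)) (add_zero n) := by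
  refine Function.bijective_iff_has_inverse.2 ⟨fun y => (Ext.mk₀ (adj.unit.app Z ≫ Q.map (inv a))).comp
    (Ext.mapExactFunctor.{w₂, w₁} Q y) (zero_add n), fun z => ?_, fun y => ?_⟩
  · dsimp only
    rw [Ext.mapExactFunctor_comp, Ext.mapExactFunctor_comp, Ext.mapExactFunctor_mk₀,
      Ext.mapExactFunctor_mk₀, Ext.comp_assoc_of_third_deg_zero, Ext.mk₀_comp_mk₀_assoc,
      Category.assoc, ← Functor.map_comp, IsIso.inv_hom_id, CategoryTheory.Functor.map_id]
    erw [Category.comp_id]
    rw [← Ext.comp_assoc_of_third_deg_zero]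
    erw [ext_app_map_map P Q adj.unit n (Q.obj G) z]
    rw [Ext.comp_assoc_of_second_deg_zero, Ext.mk₀_comp_mk₀]
    erw [adj.right_triangle_components]
    exact Ext.comp_mk₀_id z
  · dsimp only
    rw [Ext.mapExactFunctor_comp, Ext.mapExactFunctor_mk₀, Ext.mk₀_comp_mk₀_assoc,
      Ext.comp_assoc_of_third_deg_zero]
    have h := ext_map_map_app.{_, _, _, _, w₂, w₁} Q P adj.counit n G y
    rw [h, Ext.mk₀_comp_mk₀_assoc]
    have e : (a ≫ P.map (adj.unit.app Z ≫ Q.map (inv a))) ≫ adj.counit.app Z' = 𝟙 Z' := by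
      rw [Functor.map_comp, Category.assoc, Category.assoc]
      erw [adj.counit.naturality]
      rw [adj.left_triangle_components_assoc]
      exact IsIso.hom_inv_id a
    rw [e]
    exact Ext.mk₀_id_comp y

omit [EnoughInjectives A] in
include adj in
/-- Pulling back factors through the unit and the counit. -/
theorem map_eq_unit_counit (G : A) (n : ℕ) (x : Ext.{w₁} Z G n) :
    (Ext.mk₀ a).comp (Ext.mapExactFunctor.{w₁, w₂} P x) (zero_add n) =
      ((Ext.mk₀ a).comp (Ext.mapExactFunctor.{w₁, w₂} P (x.comp (Ext.mk₀ (adj.unit.app G)) (add_zero n)))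
        (zero_add n)).comp (Ext.mk₀ (adj.counit.app (P.obj G))) (add_zero n) := by
  rw [Ext.mapExactFunctor_comp, Ext.mapExactFunctor_mk₀, Ext.comp_assoc_of_third_deg_zero,
    Ext.comp_assoc_of_third_deg_zero, Ext.mk₀_comp_mk₀]
  have h : P.map (adj.unit.app G) ≫ adj.counit.app (P.obj G) = 𝟙 (P.obj G) := adj.left_triangle_components G
  exact congrArg (fun t => (Ext.mk₀ a).comp t (zero_add n))
    (((congrArg (fun t => (Ext.mapExactFunctor.{w₁, w₂} P x).comp (Ext.mk₀ t) (add_zero n)) h).trans
      (Ext.comp_mk₀_id _)).symm)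

omit [EnoughInjectives A] in
/-- A map whose kernel and cokernel have no `Ext` from `Z` induces bijections. -/
theorem bijective_comp_of_kernel_cokernel {F G : A} (f : F ⟶ G)
    (hk : ∀ n, Subsingleton (Ext.{w₁} Z (kernel f) n)) (hc : ∀ n, Subsingleton (Ext.{w₁} Z (cokernel f) n))
    (n : ℕ) : Function.Bijective fun x : Ext.{w₁} Z F n => x.comp (Ext.mk₀ f) (add_zero n) := by
  let S₁ : ShortComplex A := ShortComplex.mk (kernel.ι f) (Abelian.factorThruImage f)
    (by rw [← cancel_mono (Abelian.image.ι f)]; simp)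
  have h₁ : S₁.ShortExact :=
    { exact := ShortComplex.exact_of_f_is_kernel _ (KernelFork.IsLimit.ofι' _ _ fun k hk =>
        ⟨kernel.lift f k (by rw [← Abelian.image.fac f, ← Category.assoc, hk, zero_comp]), kernel.lift_ι _ _ _⟩) }
  let S₂ : ShortComplex A := ShortComplex.mk (Abelian.image.ι f) (cokernel.π f) (kernel.condition _)
  have h₂ : S₂.ShortExact := { exact := ShortComplex.exact_of_f_is_kernel _ (kernelIsKernel (cokernel.π f)) }
  have b₁ : Function.Bijective fun x : Ext.{w₁} Z F n => x.comp (Ext.mk₀ S₁.g) (add_zero n) := by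
    refine ⟨(injective_iff_map_eq_zero ((Ext.mk₀ S₁.g).postcomp Z (add_zero n))).2 fun x hx => ?_, fun y => ?_⟩
    · obtain ⟨w, rfl⟩ := Ext.covariant_sequence_exact₂ Z h₁ x hx
      rw [(hk n).elim w 0, Ext.zero_comp]
    · exact Ext.covariant_sequence_exact₃ Z h₁ y rfl ((hk (n + 1)).elim _ _)
  have b₂ : Function.Bijective fun x : Ext.{w₁} Z (Abelian.image f) n => x.comp (Ext.mk₀ S₂.f) (add_zero n) := by
    refine ⟨?_, fun y => Ext.covariant_sequence_exact₂ Z h₂ y ((hc n).elim _ _)⟩
    cases n with
    | zero => exact Ext.postcomp_mk₀_injective_of_mono Z S₂.f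
    | succ n =>
      refine (injective_iff_map_eq_zero ((Ext.mk₀ S₂.f).postcomp Z (add_zero (n + 1)))).2 fun x hx => ?_
      obtain ⟨w, rfl⟩ := Ext.covariant_sequence_exact₁ Z h₂ x hx rfl
      rw [(hc n).elim w 0, Ext.zero_comp]
  convert b₂.comp b₁ using 1
  funext x
  show x.comp (Ext.mk₀ f) (add_zero n) = (x.comp (Ext.mk₀ S₁.g) (add_zero n)).comp (Ext.mk₀ S₂.f) (add_zero n)
  rw [Ext.comp_assoc_of_third_deg_zero, Ext.mk₀_comp_mk₀]
  exact congrArg (fun t => x.comp (Ext.mk₀ t) _) (Abelian.image.fac f).symm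

end Generic

variable {A : Type u} [CommRing A] [HenselianLocalRing A]

/-- The inclusion of the closed point. -/
noncomputable abbrev closedIncl (A : Type u) [CommRing A] [HenselianLocalRing A] :
    Spec (CommRingCat.of (IsLocalRing.ResidueField A)) ⟶ Spec (CommRingCat.of A) :=
  Spec.map (CommRingCat.ofHom (IsLocalRing.residue A))

instance : IsClosedImmersion (closedIncl A) :=
  IsClosedImmersion.spec_of_surjective _ Ideal.Quotient.mk_surjective

variable {F : EtCoh.Ab (Spec (CommRingCat.of A))} (hF : IsZero ((EtCoh.pull (closedIncl A)).obj F))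

include hF in
/-- A sheaf vanishing at the closed point has no section over finite étale schemes. -/
theorem sections_eq_zero {U : (Spec (CommRingCat.of A)).Etale} (hU : IsFin U) (s : F.obj.obj (op U)) :
    s = 0 := by
  have : IsFinite U.hom := hU
  have key : ∀ x : {x : U.left // U.hom x = IsLocalRing.closedPoint A},
      ∃ (V : (Spec (CommRingCat.of A)).Etale) (g : V ⟶ U) (v : V.left),
        g.left v = x.1 ∧ F.obj.map g.op s = 0 := by
    rintro ⟨x, hx⟩
    let Ω := SeparableClosure (U.left.residueField x)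
    let ξ := sepPoint U.left x
    let η : Spec (CommRingCat.of Ω) ⟶ Spec (CommRingCat.of A) := ξ ≫ U.hom
    let g : A →+* Ω := (Spec.preimage η).hom
    have hη : η default = IsLocalRing.closedPoint A :=
      (congrArg (fun t => U.hom t) (sepPoint_default U.left x)).trans hx
    have hg : RingHom.ker g = IsLocalRing.maximalIdeal A := by
      have h1 : Spec.map (Spec.preimage η) default = IsLocalRing.closedPoint A := by
        rw [Spec.map_preimage]; exact hη
      have h2 := congrArg PrimeSpectrum.asIdeal h1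
      show Ideal.comap g ⊥ = _
      refine Eq.trans (congrArg (Ideal.comap g) ?_) h2
      exact (Ideal.eq_bot_of_prime _).symm
    let ρ : IsLocalRing.ResidueField A →+* Ω :=
      Ideal.Quotient.lift _ g fun a ha => RingHom.mem_ker.1 (hg.symm ▸ ha)
    have hfac : Spec.map (CommRingCat.ofHom ρ) ≫ closedIncl A = η := by
      rw [← Spec.map_comp, ← Spec.map_preimage η]
      rfl
    have hstalk : IsZero ((EtCoh.stalk η).obj F) := by
      have h3 : IsZero ((EtCoh.stalk (Spec.map (CommRingCat.ofHom ρ))).obj ((EtCoh.pull (closedIncl A)).obj F)) :=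
        Functor.map_isZero _ hF
      exact (hfac ▸ h3.of_iso ((stalkPullIso (closedIncl A) (Spec.map (CommRingCat.ofHom ρ))).app F).symm :
        IsZero ((EtCoh.stalk η).obj F))
    let Φ := Scheme.pointSmallEtale η
    let p : Φ.fiber.obj U := CategoryTheory.Over.homMk ξ rfl
    have h0 : Φ.toPresheafFiber U p F.obj s = Φ.toPresheafFiber U p F.obj 0 :=
      (AddCommGrpCat.subsingleton_of_isZero hstalk).elim _ _
    obtain ⟨V, gV, q, hq, hst⟩ := (Φ.toPresheafFiber_eq_iff' _ _ _ _).1 h0
    let ql : Spec (CommRingCat.of Ω) ⟶ V.left := q.left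
    refine ⟨V, gV, ql default, ?_, hst.trans (map_zero _)⟩
    have h4 : ql ≫ gV.left = ξ := congrArg (fun t => t.left) hq
    exact (congrArg (fun t => t default) h4).trans (sepPoint_default U.left x)
  choose V g v hv hgs using key
  haveI : Etale U.hom := U.prop
  have hopen : ∀ x, IsOpen (Set.range (g x).left) := fun x => by
    haveI : Etale ((g x).left ≫ U.hom) := by
      have h : (g x).left ≫ U.hom = (V x).hom := CategoryTheory.Over.w (g x).hom
      exact h ▸ (V x).prop
    haveI := Etale.of_comp (g x).left U.hom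
    exact (g x).left.isOpenMap.isOpen_range
  have hall := eq_univ_of_closed_fibre U.hom (isOpen_iUnion hopen) fun y hy =>
    Set.mem_iUnion.2 ⟨⟨y, hy⟩, v ⟨y, hy⟩, hv ⟨y, hy⟩⟩
  let Y : ULift.{u + 1} {x : U.left // U.hom x = IsLocalRing.closedPoint A} → Over U :=
    fun x => Over.mk (g x.down)
  have hY : EtCechLib.JointlySurj U Y := fun x => by
    obtain ⟨i, t, ht⟩ := Set.mem_iUnion.1 (hall.symm ▸ Set.mem_univ x : x ∈ ⋃ i, Set.range (g i).left)
    exact ⟨⟨i⟩, t, ht⟩
  exact EtCechLib.ext_of_cover F (fun i => (Y i).hom) hY.mem fun i => (hgs i.down).trans (map_zero _).symm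

include hF in
/-- A sheaf vanishing at the closed point has no cohomology. -/
theorem subsingleton_H (n : ℕ) : Subsingleton (EtCoh.H (Spec (CommRingCat.of A)) F n) := by
  cases n with
  | zero =>
    refine subsingleton_of_forall_eq 0 fun x => ?_
    obtain ⟨g, rfl⟩ := (Ext.mk₀_bijective _ _).2 x
    have : g = 0 := EtLimit.secOf_injective ((sections_eq_zero hF isFin_top _).trans EtLimit.secOf_zero.symm)
    rw [this, Ext.mk₀_zero]
  | succ n =>
    haveI : ∀ U : (Spec (CommRingCat.of A)).Etale, HasFiniteProducts (Over U) := fun U => inferInstance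
    refine (finBasis A).subsingleton_ext (X := EtCoh.const (Spec (CommRingCat.of A)) ℤ)
      (fun g hg a => EtCechLib.exists_lift_const (EtCore.topIsTerminal _) g (hg _ isFin_top) a) ?_ n
    intro U ι Y hY p
    rw [SiteCoh.Cech.isZero_homology_succ_iff]
    intro x hx
    refine ⟨0, (map_zero _).trans (SiteCoh.Cech.ext _ _ fun a => ?_)⟩
    exact (sections_eq_zero hF ((finBasis A).inter U ι Y hY _ a) _).trans
      (sections_eq_zero hF ((finBasis A).inter U ι Y hY _ a) _).symm

/-- Restriction to the closed point is bijective on cohomology. -/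
theorem bijective_Hpull (F : EtCoh.Ab (Spec (CommRingCat.of A)))
    [PreservesFiniteLimits (EtCoh.pull (closedIncl A))] (n : ℕ) :
    Function.Bijective (EtCore.Hpull (closedIncl A) F n) := by
  have : (EtCoh.push (closedIncl A)).PreservesHomology := push_preservesHomology_of_integral _
  have : PreservesFiniteColimits (EtCoh.push (closedIncl A)) :=
    Functor.preservesFiniteColimits_of_preservesHomology _
  have : PreservesFiniteLimits (EtCoh.push (closedIncl A)) :=
    have : (EtCoh.push (closedIncl A)).IsRightAdjoint := ⟨_, ⟨EtCoh.pullPushAdj _⟩⟩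
    inferInstance
  let adj := EtCoh.pullPushAdj (closedIncl A)
  have : IsIso ((EtCoh.pull (closedIncl A)).map (adj.unit.app F)) :=
    have : IsIso ((EtCoh.pull (closedIncl A)).map (adj.unit.app F) ≫
        adj.counit.app ((EtCoh.pull (closedIncl A)).obj F)) := by
      erw [adj.left_triangle_components F]; exact IsIso.id _
    IsIso.of_isIso_comp_right _ (adj.counit.app ((EtCoh.pull (closedIncl A)).obj F))
  have hk : IsZero ((EtCoh.pull (closedIncl A)).obj (kernel (adj.unit.app F))) :=
    (isZero_kernel_of_mono ((EtCoh.pull (closedIncl A)).map (adj.unit.app F))).of_iso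
      (PreservesKernel.iso (EtCoh.pull (closedIncl A)) (adj.unit.app F))
  have hc : IsZero ((EtCoh.pull (closedIncl A)).obj (cokernel (adj.unit.app F))) :=
    (isZero_cokernel_of_epi ((EtCoh.pull (closedIncl A)).map (adj.unit.app F))).of_iso
      (PreservesCokernel.iso (EtCoh.pull (closedIncl A)) (adj.unit.app F))
  have b₁ := bijective_comp_of_kernel_cokernel.{_, _, u + 1} (Z := EtCoh.const (Spec (CommRingCat.of A)) ℤ)
    (adj.unit.app F) (fun m => subsingleton_H hk m) (fun m => subsingleton_H hc m) n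
  have b₂ := bijective_map_counit.{_, _, _, _, u + 1, u + 1} (EtCoh.pull (closedIncl A))
    (EtCoh.push (closedIncl A)) adj (EtCore.pullConst (closedIncl A) ℤ).inv
    ((EtCoh.pull (closedIncl A)).obj F) n
  have b := b₂.comp b₁
  have e : ∀ x : Ext.{u + 1} (EtCoh.const (Spec (CommRingCat.of A)) ℤ) F n,
      (Ext.mk₀ (EtCore.pullConst (closedIncl A) ℤ).inv).comp
        (Ext.mapExactFunctor.{u + 1, u + 1} (EtCoh.pull (closedIncl A)) x) (zero_add n) =
      ((fun z => ((Ext.mk₀ (EtCore.pullConst (closedIncl A) ℤ).inv).comp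
        (Ext.mapExactFunctor.{u + 1, u + 1} (EtCoh.pull (closedIncl A)) z) (zero_add n)).comp
          (Ext.mk₀ (adj.counit.app ((EtCoh.pull (closedIncl A)).obj F))) (add_zero n)) ∘
        fun x : Ext.{u + 1} (EtCoh.const (Spec (CommRingCat.of A)) ℤ) F n => x.comp (Ext.mk₀ (adj.unit.app F)) (add_zero n)) x := fun x =>
    map_eq_unit_counit.{_, _, _, _, u + 1, u + 1} (EtCoh.pull (closedIncl A)) (EtCoh.push (closedIncl A)) adj
      (EtCore.pullConst (closedIncl A) ℤ).inv F n x
  exact ⟨fun x y h => b.1 ((e x).symm.trans (h.trans (e y))),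
    fun y => let ⟨x, hx⟩ := b.2 y; ⟨x, (e x).trans hx⟩⟩

end Groth.Agent.Et18.Descent0
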