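import Groth.Prelude.Def_EtCore
import Groth.Agent.Et18.Stalk
import Mathlib.Algebra.Homology.DerivedCategory.Ext.EnoughInjectives
import Mathlib.CategoryTheory.Abelian.GrothendieckCategory.EnoughInjectives

/-!
# A morphism of schemes with a section induces split monomorphisms on étale cohomology
-/

set_option autoImplicit false
set_option linter.all false
set_option backward.isDefEq.respectTransparency.types false
set_option backward.isDefEq.respectTransparency false
set_option backward.defeqAttrib.useBackward true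
set_option synthInstance.maxHeartbeats 400000
set_option maxHeartbeats 800000

universe u

open CategoryTheory Limits AlgebraicGeometry Opposite CategoryTheory.Abelian

namespace Groth.Agent.Et18.Descent0

section Generic

universe v₁ u₁ v₂ u₂ w₁ w₂

variable {A : Type u₁} [Category.{v₁} A] [Abelian A] [HasExt.{w₁} A] [EnoughInjectives A]
  {B : Type u₂} [Category.{v₂} B] [Abelian B] [HasExt.{w₂} B]
  (P : A ⥤ B) [P.Additive] [PreservesFiniteLimits P] [PreservesFiniteColimits P]
  (Q : B ⥤ A) [Q.Additive] [PreservesFiniteLimits Q] [PreservesFiniteColimits Q]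

/-- If an exact composite `P ⋙ Q` is isomorphic to the identity, it acts as the identity on `Ext`. -/
theorem ext_map_map_comp (e : P ⋙ Q ≅ 𝟭 A) {Z : A} (n : ℕ) :
    ∀ (G : A) (x : Ext.{w₁} Z G n),
      (Ext.mapExactFunctor.{w₂, w₁} Q (Ext.mapExactFunctor.{w₁, w₂} P x)).comp
          (Ext.mk₀ (e.hom.app G)) (add_zero n) =
        (Ext.mk₀ (e.hom.app Z)).comp x (zero_add n) := by
  induction n with
  | zero =>
    intro G x
    obtain ⟨g, rfl⟩ := (Ext.mk₀_bijective _ _).2 x
    rw [Ext.mapExactFunctor_mk₀, Ext.mapExactFunctor_mk₀, Ext.mk₀_comp_mk₀, Ext.mk₀_comp_mk₀]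
    exact congrArg Ext.mk₀ (e.hom.naturality g)
  | succ n ih =>
    intro G x
    let S : ShortComplex A := ShortComplex.mk (Injective.ι G) (cokernel.π (Injective.ι G)) (by simp)
    have hS : S.ShortExact := { exact := ShortComplex.exact_cokernel (Injective.ι G) }
    obtain ⟨y, rfl⟩ := Ext.covariant_sequence_exact₁ Z hS x (Ext.eq_zero_of_injective _) rfl
    have hp : ((S.map P).map Q).ShortExact := (hS.map_of_exact P).map_of_exact Q
    let τ : (S.map P).map Q ⟶ S :=
      { τ₁ := e.hom.app S.X₁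
        τ₂ := e.hom.app S.X₂
        τ₃ := e.hom.app S.X₃
        comm₁₂ := (e.hom.naturality S.f).symm
        comm₂₃ := (e.hom.naturality S.g).symm }
    have hτ : (Ext.mk₀ (e.hom.app S.X₃)).comp hS.extClass (zero_add 1) =
        hp.extClass.comp (Ext.mk₀ (e.hom.app S.X₁)) (add_zero 1) :=
      (ShortComplex.ShortExact.extClass_naturality hp hS τ).symm
    rw [Ext.mapExactFunctor_comp, Ext.mapExactFunctor_comp, Ext.mapExactFunctor_extClass,
      Ext.mapExactFunctor_extClass]
    rw [Ext.comp_assoc_of_third_deg_zero]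
    erw [← hτ]
    rw [← Ext.comp_assoc_of_second_deg_zero, ih]
    exact Ext.comp_assoc _ _ _ (zero_add n) rfl (by omega)

/-- With `e : P ⋙ Q ≅ 𝟭`, applying `P` and precomposing with an isomorphism has a left inverse. -/
theorem exists_retraction_ext (e : P ⋙ Q ≅ 𝟭 A) {Z : A} {Z' : B} (a : Z' ⟶ P.obj Z) [IsIso a]
    (G : A) (n : ℕ) :
    ∃ r : Ext.{w₂} Z' (P.obj G) n →+ Ext.{w₁} Z G n,
      ∀ x : Ext.{w₁} Z G n, r ((Ext.mk₀ a).comp (Ext.mapExactFunctor.{w₁, w₂} P x) (zero_add n)) = x := by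
  let b : Q.obj Z' ⟶ Z := Q.map a ≫ e.hom.app Z
  have : IsIso b := inferInstance
  refine ⟨AddMonoidHom.mk' (fun y => (Ext.mk₀ (inv b)).comp
      ((Ext.mapExactFunctor.{w₂, w₁} Q y).comp (Ext.mk₀ (e.hom.app G)) (add_zero n)) (zero_add n))
    (fun y y' => by rw [Ext.mapExactFunctor_add, Ext.add_comp, Ext.comp_add]), fun x => ?_⟩
  show (Ext.mk₀ (inv b)).comp ((Ext.mapExactFunctor.{w₂, w₁} Q
    ((Ext.mk₀ a).comp (Ext.mapExactFunctor.{w₁, w₂} P x) (zero_add n))).comp (Ext.mk₀ (e.hom.app G))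
      (add_zero n)) (zero_add n) = x
  rw [Ext.mapExactFunctor_comp, Ext.mapExactFunctor_mk₀, Ext.comp_assoc_of_third_deg_zero,
    ext_map_map_comp P Q e n G x, Ext.mk₀_comp_mk₀_assoc, Ext.mk₀_comp_mk₀_assoc]
  simp [b]

end Generic

/-- Base change along the identity. -/
noncomputable def bcIdIso (X : Scheme.{u}) : EtCoh.bc (𝟙 X) ≅ 𝟭 X.Etale :=
  NatIso.ofComponents
    (fun A => MorphismProperty.Over.isoMk (asIso (pullback.fst A.hom (𝟙 X)))
      (by
        show pullback.fst A.hom (𝟙 X) ≫ A.hom = pullback.snd A.hom (𝟙 X)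
        rw [pullback.condition, Category.comp_id]))
    (fun {A B} q => by
      refine (Scheme.Etale.forget X ⋙ CategoryTheory.Over.forget X).map_injective ?_
      exact pullback.lift_fst _ _ _)

/-- Inverse image along the identity. -/
noncomputable def pullIdIso (X : Scheme.{u}) : EtCoh.pull (𝟙 X) ≅ 𝟭 (EtCoh.Ab X) :=
  Adjunction.leftAdjointUniq
    ((EtCoh.pullPushAdj (𝟙 X)).ofNatIsoRight
      (Functor.sheafPushforwardContinuousId' (bcIdIso X) AddCommGrpCat.{u + 1} X.smallEtaleTopology))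
    Adjunction.id

/-- For a morphism `π` with a section, pullback on cohomology is split injective, and the group of
the source may be replaced by any sheaf isomorphic to the inverse image. -/
theorem exists_split_Hpull {A B : Scheme.{u}} (π : A ⟶ B) (σ : B ⟶ A) (w : σ ≫ π = 𝟙 B)
    (G : EtCoh.Ab B) {M : EtCoh.Ab A} (ε : (EtCoh.pull π).obj G ≅ M) (n : ℕ) :
    ∃ (i : AddCommGrpCat.of (EtCoh.H B G n) ⟶ AddCommGrpCat.of (EtCoh.H A M n))
      (r : AddCommGrpCat.of (EtCoh.H A M n) ⟶ AddCommGrpCat.of (EtCoh.H B G n)), i ≫ r = 𝟙 _ := by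
  have : PreservesFiniteLimits (EtCoh.pull π) := inferInstance
  have : PreservesFiniteLimits (EtCoh.pull σ) := inferInstance
  let e : EtCoh.pull π ⋙ EtCoh.pull σ ≅ 𝟭 _ :=
    (EtCore.pullComp σ π).symm ≪≫ EtCore.pullCongr w ≪≫ pullIdIso B
  obtain ⟨r, hr⟩ := exists_retraction_ext.{_, _, _, _, u + 1, u + 1} (EtCoh.pull π) (EtCoh.pull σ) e
    (EtCore.pullConst π ℤ).inv G n
  let E := (EtCoh.HF A n).mapIso ε
  refine ⟨AddCommGrpCat.ofHom (EtCore.Hpull π G n) ≫ E.hom, E.inv ≫ AddCommGrpCat.ofHom r, ?_⟩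
  rw [Category.assoc]
  refine (congrArg (AddCommGrpCat.ofHom (EtCore.Hpull π G n) ≫ ·) (E.hom_inv_id_assoc _)).trans ?_
  ext x
  exact hr x

end Groth.Agent.Et18.Descent0
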