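import Groth.Agent.EtCechLib.Qcqs
import Groth.Agent.HenselLib.QFPart
import Groth.Agent.Et18.Stalk
import Mathlib.AlgebraicGeometry.Morphisms.Finite
import Mathlib.RingTheory.Unramified.Finite

/-!
# The basis of finite étale schemes over a henselian local ring
-/

set_option autoImplicit false
set_option linter.all false
set_option backward.isDefEq.respectTransparency.types false
set_option backward.isDefEq.respectTransparency false
set_option backward.defeqAttrib.useBackward true
set_option synthInstance.maxHeartbeats 400000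
set_option maxHeartbeats 800000

universe u

open CategoryTheory CategoryTheory.Limits AlgebraicGeometry Opposite Groth.Agent.SiteCoh
open scoped TensorProduct

namespace Groth.Agent.Et18.Descent0

open Groth.Agent.EtCechLib

variable {X : Scheme.{u}}

/-- Finite over the base. -/
def IsFin (U : X.Etale) : Prop := IsFinite U.hom

theorem isFin_of_iso {U V : X.Etale} (e : U ≅ V) (h : IsFin U) : IsFin V := by
  unfold IsFin at h ⊢
  have w : e.inv.left ≫ U.hom = V.hom := CategoryTheory.Over.w e.inv.hom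
  have : IsIso e.inv.left :=
    inferInstanceAs (IsIso ((Scheme.Etale.forget X ⋙ CategoryTheory.Over.forget X).map e.inv))
  rw [← w]
  exact inferInstance

theorem isFin_top : IsFin (EtCoh.top X) := inferInstanceAs (IsFinite (𝟙 X))

theorem isFinite_left {U V : X.Etale} (g : V ⟶ U) (hU : IsFin U) (hV : IsFin V) : IsFinite g.left := by
  unfold IsFin at hU hV
  have w : g.left ≫ U.hom = V.hom := CategoryTheory.Over.w g.hom
  have : IsFinite (g.left ≫ U.hom) := w.symm ▸ hV
  exact IsFinite.of_comp g.left U.hom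

theorem isFin_prod {U : X.Etale} (hU : IsFin U) {A B : Over U} (hA : IsFin A.left) (hB : IsFin B.left)
    {c : BinaryFan A B} (hc : IsLimit c) : IsFin c.pt.left := by
  have h := (Over.isPullback_of_binaryFan_isLimit c hc).map
    (Scheme.Etale.forget X ⋙ CategoryTheory.Over.forget X)
  have h1 : IsFinite c.fst.left.left := MorphismProperty.of_isPullback (P := @IsFinite) h.flip
    (isFinite_left B.hom hU hB)
  unfold IsFin at hA ⊢
  have w : c.fst.left.left ≫ A.left.hom = c.pt.left.hom := CategoryTheory.Over.w c.fst.left.hom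
  rw [← w]
  exact inferInstance

theorem isFin_fan {U : X.Etale} (hU : IsFin U) : ∀ {n : ℕ} (f : Fin n → Over U),
    (∀ k, IsFin (f k).left) → ∀ {c : Fan f}, IsLimit c → IsFin c.pt.left := by
  intro n
  induction n with
  | zero =>
    intro f _ c hc
    have hT : IsTerminal c.pt := IsTerminal.ofUniqueHom
      (fun Z => hc.lift (Fan.mk Z (fun k => Fin.elim0 k)))
      (fun Z m => hc.hom_ext fun ⟨k⟩ => Fin.elim0 k)
    exact isFin_of_iso ((Over.forget U).mapIso (Over.mkIdTerminal.uniqueUpToIso hT)) hU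
  | succ n ih =>
    intro f hf c hc
    haveI : HasPullbacks X.Etale := inferInstance
    let c₁ : Fan fun i : Fin n => f i.succ := Fan.mk _ (Pi.π fun i : Fin n => f i.succ)
    let t₁ : IsLimit c₁ := productIsProduct _
    let t₂ := prodIsProd (f 0) c₁.pt
    have h₁ := ih _ (fun k => hf k.succ) t₁
    have h₂ := isFin_prod hU (hf 0) h₁ t₂
    exact isFin_of_iso ((Over.forget U).mapIso ((extendFanIsLimit f t₁ t₂).conePointUniqueUpToIso hc)) h₂

variable {A : Type u} [CommRing A] [HenselianLocalRing A]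

/-- A point over the closed point of an étale algebra lies in a finite clopen part. -/
theorem exists_finite_nhd (B : Type u) [CommRing B] [Algebra A B] [Algebra.Etale A B]
    (q : Ideal B) [q.IsPrime] (hq : IsLocalRing.maximalIdeal A ≤ q.comap (algebraMap A B)) :
    ∃ e : B, IsIdempotentElem e ∧ e ∉ q ∧ Module.Finite A (B ⧸ Ideal.span {1 - e}) := by
  set m := IsLocalRing.maximalIdeal A
  have : HenselianRing A m := inferInstance
  letI : Field (A ⧸ m) := Ideal.Quotient.field m
  have : Module.Finite (A ⧸ m) ((A ⧸ m) ⊗[A] B) := Algebra.FormallyUnramified.finite_of_free _ _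
  have : Module.Finite A ((A ⧸ m) ⊗[A] B) := Module.Finite.trans (A ⧸ m) _
  have : Module.Finite A (B ⧸ m.map (algebraMap A B)) :=
    Module.Finite.equiv ((Algebra.TensorProduct.comm A (A ⧸ m) B).trans
      ((Algebra.TensorProduct.quotIdealMapEquivTensorQuot B m).symm.restrictScalars A)).toLinearEquiv
  obtain ⟨e, he, he1, hf⟩ := HenselLib.exists_finite_part_of_quasiFinite (B := B) m
  refine ⟨e, he, fun h => (‹q.IsPrime›).ne_top ((Ideal.eq_top_iff_one q).2 ?_), hf⟩
  have : e - 1 ∈ q := Ideal.map_le_iff_le_comap.2 hq he1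
  simpa using q.sub_mem h this

/-- Points over the closed point of an étale scheme have finite étale neighbourhoods. -/
theorem exists_fin_nhd (Z : (Spec (CommRingCat.of A)).Etale) (z : Z.left)
    (hz : Z.hom z = IsLocalRing.closedPoint A) :
    ∃ (W : (Spec (CommRingCat.of A)).Etale) (j : W ⟶ Z) (w : W.left), IsFin W ∧ j.left w = z := by
  have : Etale Z.hom := Z.prop
  obtain ⟨O, hO, hzO, -⟩ := exists_isAffineOpen_mem_and_subset (X := Z.left) (x := z) (U := ⊤) trivial
  have : IsAffine O.toScheme := hO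
  let φ : CommRingCat.of A ⟶ Γ(O.toScheme, ⊤) := Spec.preimage (O.toScheme.isoSpec.inv ≫ O.ι ≫ Z.hom)
  have hφ : Spec.map φ = O.toScheme.isoSpec.inv ≫ O.ι ≫ Z.hom := Spec.map_preimage _
  have he : φ.hom.Etale := (HasRingHomProperty.Spec_iff (P := @Etale)).mp (by rw [hφ]; infer_instance)
  algebraize [φ.hom]
  have : Algebra.Etale A Γ(O.toScheme, ⊤) := RingHom.etale_algebraMap.mp he
  let q : Spec Γ(O.toScheme, ⊤) := O.toScheme.isoSpec.hom ⟨z, hzO⟩
  have hqz : (O.toScheme.isoSpec.inv ≫ O.ι) q = z := by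
    show O.ι (O.toScheme.isoSpec.inv (O.toScheme.isoSpec.hom ⟨z, hzO⟩)) = z
    rw [Scheme.hom_inv_apply]
    rfl
  have hq : Spec.map φ q = IsLocalRing.closedPoint A := by
    rw [hφ, ← Category.assoc]
    exact (congrArg (fun t => Z.hom t) hqz).trans hz
  obtain ⟨e, hei, heq, hfin⟩ := exists_finite_nhd (A := A) Γ(O.toScheme, ⊤) q.asIdeal
    (le_of_eq (congrArg PrimeSpectrum.asIdeal hq).symm)
  let π : Γ(O.toScheme, ⊤) ⟶ CommRingCat.of (Γ(O.toScheme, ⊤) ⧸ Ideal.span {1 - e}) :=
    CommRingCat.ofHom (Ideal.Quotient.mk _)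
  have : IsOpenImmersion (Spec.map π) := by
    have := IsLocalization.away_of_isIdempotentElem (R := Γ(O.toScheme, ⊤))
      (S := Γ(O.toScheme, ⊤) ⧸ Ideal.span {1 - e}) hei (Ideal.mk_ker) Ideal.Quotient.mk_surjective
    exact IsOpenImmersion.of_isLocalization e
  have : IsFinite (Spec.map (φ ≫ π)) := by
    rw [IsFinite.SpecMap_iff]
    exact RingHom.finite_algebraMap.mpr hfin
  have hw : (Spec.map π ≫ O.toScheme.isoSpec.inv ≫ O.ι) ≫ Z.hom = Spec.map (φ ≫ π) := by
    rw [Spec.map_comp, hφ, Category.assoc, Category.assoc]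
  let W : (Spec (CommRingCat.of A)).Etale :=
    Scheme.Etale.mk ((Spec.map π ≫ O.toScheme.isoSpec.inv ≫ O.ι) ≫ Z.hom)
  have hle : Ideal.span {1 - e} ≤ q.asIdeal := by
    rw [Ideal.span_singleton_le_iff_mem]
    have h0 : e * (1 - e) ∈ q.asIdeal := by
      rw [mul_sub, mul_one, hei.eq, sub_self]; exact zero_mem _
    exact (q.isPrime.mem_or_mem h0).resolve_left heq
  obtain ⟨w, hw'⟩ : q ∈ Set.range (Spec.map π) := by
    have h1 := range_comap_of_surjective _ π.hom Ideal.Quotient.mk_surjective
    exact h1.symm ▸ (show q ∈ PrimeSpectrum.zeroLocus (RingHom.ker π.hom : Set _) from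
      fun x hx => hle ((Ideal.mk_ker (I := Ideal.span {1 - e})) ▸ hx))
  refine ⟨W, MorphismProperty.Over.homMk (Spec.map π ≫ O.toScheme.isoSpec.inv ≫ O.ι) rfl trivial, w, ?_, ?_⟩
  · show IsFinite ((Spec.map π ≫ O.toScheme.isoSpec.inv ≫ O.ι) ≫ Z.hom)
    rw [hw]
    infer_instance
  · show (Spec.map π ≫ O.toScheme.isoSpec.inv ≫ O.ι) w = z
    rw [Scheme.Hom.comp_apply, hw', hqz]

/-- An open set containing the fibre over the closed point of a closed morphism is everything. -/
theorem eq_univ_of_closed_fibre {U : Scheme.{u}} (f : U ⟶ Spec (CommRingCat.of A)) [IsFinite f] {O : Set U}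
    (hO : IsOpen O) (h : ∀ x, f x = IsLocalRing.closedPoint A → x ∈ O) : O = Set.univ := by
  by_contra hne
  obtain ⟨x, hx⟩ := (Set.ne_univ_iff_exists_notMem O).1 hne
  have hc : IsClosed (f.base '' Oᶜ) := f.isClosedMap _ hO.isClosed_compl
  have : IsLocalRing.closedPoint A ∈ f.base '' Oᶜ :=
    (IsLocalRing.specializes_closedPoint (R := A) (f x)).mem_closed hc ⟨x, hx, rfl⟩
  obtain ⟨y, hy, hy'⟩ := this
  exact hy (h y hy')

/-- Finite étale schemes with finite étale coverings. -/
noncomputable def finBasis (A : Type u) [CommRing A] [HenselianLocalRing A]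
    [∀ U : (Spec (CommRingCat.of A)).Etale, HasFiniteProducts (Over U)] :
    Basis.{u + 1} (Spec (CommRingCat.of A)).smallEtaleTopology where
  B := IsFin
  Cov U ι Y := IsFin U ∧ (∀ i, IsFin (Y i).left) ∧ JointlySurj U Y
  mem U ι Y h := h.2.2.mem
  inter U ι Y h p a := isFin_fan h.1 _ (fun k => h.2.1 (a k)) (productIsProduct _)
  refine_ U hU T hT := by
    have : IsFinite U.hom := hU
    choose Z f hf z hz using fun x : {x : U.left // U.hom x = IsLocalRing.closedPoint A} =>
      exists_mem_of_mem hT x.1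
    have hz' : ∀ x, (Z x).hom (z x) = IsLocalRing.closedPoint A := fun x => by
      have w : (f x).left ≫ U.hom = (Z x).hom := CategoryTheory.Over.w (f x).hom
      exact (congrArg (fun g => g (z x)) w).symm.trans ((congrArg (fun t => U.hom t) (hz x)).trans x.2)
    choose W j w hW hj using fun x => exists_fin_nhd (Z x) (z x) (hz' x)
    refine ⟨ULift.{u + 1} {x : U.left // U.hom x = IsLocalRing.closedPoint A},
      fun x => Over.mk (j x.down ≫ f x.down), ⟨hU, fun i => hW i.down, fun x => ?_⟩,
      fun i => T.downward_closed (hf i.down) _⟩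
    have hopen : ∀ x, IsOpen (Set.range (j x ≫ f x).left) := fun x => by
      haveI : Etale U.hom := U.prop
      haveI : Etale ((j x ≫ f x).left ≫ U.hom) := by
        have h : (j x ≫ f x).left ≫ U.hom = (W x).hom := CategoryTheory.Over.w (j x ≫ f x).hom
        exact h ▸ (W x).prop
      haveI := Etale.of_comp (j x ≫ f x).left U.hom
      exact (j x ≫ f x).left.isOpenMap.isOpen_range
    have hall := eq_univ_of_closed_fibre U.hom (isOpen_iUnion hopen) fun y hy =>
      Set.mem_iUnion.2 ⟨⟨y, hy⟩, w ⟨y, hy⟩, by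
        show (f ⟨y, hy⟩).left ((j ⟨y, hy⟩).left (w ⟨y, hy⟩)) = y
        rw [hj, hz]⟩
    obtain ⟨i, t, ht⟩ := Set.mem_iUnion.1 (hall.symm ▸ Set.mem_univ x :
      x ∈ ⋃ i, Set.range (j i ≫ f i).left)
    exact ⟨⟨i⟩, t, ht⟩

end Groth.Agent.Et18.Descent0
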