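import Mathlib.Algebra.Homology.ShortComplex.Exact
import Mathlib.Algebra.Category.Grp.Abelian
import Mathlib.Algebra.Homology.HomologicalComplex
import Mathlib.CategoryTheory.Abelian.Refinements

/-!
# An exact row built from a chain of split monomorphisms
-/

set_option autoImplicit false
set_option linter.all false

universe v u

open CategoryTheory Limits

namespace Groth.Agent.Et18.Descent0

variable {C : Type u} [Category.{v} C] [Abelian C]

/-- A chain of split monomorphisms starting at `A₀`. -/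
structure SplitChain (A₀ : C) (G : ℕ → C) where
  i₀ : A₀ ⟶ G 0
  r₀ : G 0 ⟶ A₀
  h₀ : i₀ ≫ r₀ = 𝟙 A₀
  i : ∀ p, G p ⟶ G (p + 1)
  r : ∀ p, G (p + 1) ⟶ G p
  h : ∀ p, i p ≫ r p = 𝟙 (G p)

namespace SplitChain

variable {A₀ : C} {G : ℕ → C} (S : SplitChain A₀ G)

/-- An object with a split monomorphism into `G p`. -/
structure Piece (G : ℕ → C) (p : ℕ) where
  A : C
  j : A ⟶ G p
  ρ : G p ⟶ A
  h : j ≫ ρ = 𝟙 A

/-- The kernel of the retraction of a piece, seen in the next term. -/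
noncomputable def next {p : ℕ} (P : Piece G p) : Piece G (p + 1) where
  A := kernel P.ρ
  j := kernel.ι P.ρ ≫ S.i p
  ρ := S.r p ≫ kernel.lift P.ρ (𝟙 _ - P.ρ ≫ P.j) (by simp [P.h])
  h := by
    rw [Category.assoc, reassoc_of% (S.h p)]
    refine equalizer.hom_ext ?_
    simp

/-- The successive pieces. -/
noncomputable def piece : ∀ p, Piece G p
  | 0 => ⟨A₀, S.i₀, S.r₀, S.h₀⟩
  | p + 1 => S.next (piece p)

/-- The projection to the complement of a piece. -/
noncomputable def proj (p : ℕ) : G p ⟶ kernel (S.piece p).ρ :=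
  kernel.lift (S.piece p).ρ (𝟙 _ - (S.piece p).ρ ≫ (S.piece p).j) (by simp [(S.piece p).h])

theorem proj_ι (p : ℕ) :
    S.proj p ≫ kernel.ι (S.piece p).ρ = 𝟙 _ - (S.piece p).ρ ≫ (S.piece p).j :=
  kernel.lift_ι _ _ _

theorem ι_proj (p : ℕ) : kernel.ι (S.piece p).ρ ≫ S.proj p = 𝟙 _ := by
  refine equalizer.hom_ext ?_
  simp [proj]

theorem j_proj (p : ℕ) : (S.piece p).j ≫ S.proj p = 0 := by
  refine equalizer.hom_ext ?_
  simp [proj, reassoc_of% (S.piece p).h]

/-- The inclusion of the complement into the next term. -/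
noncomputable def nx (p : ℕ) : kernel (S.piece p).ρ ⟶ G (p + 1) := kernel.ι (S.piece p).ρ ≫ S.i p

/-- The differential of the row. -/
noncomputable def d (p : ℕ) : G p ⟶ G (p + 1) := S.proj p ≫ S.nx p

theorem j_d (p : ℕ) : (S.piece p).j ≫ S.d p = 0 := by
  rw [d, reassoc_of% (S.j_proj p), zero_comp]

theorem nx_d (p : ℕ) : S.nx p ≫ S.d (p + 1) = 0 := S.j_d (p + 1)

theorem d_d (p : ℕ) : S.d p ≫ S.d (p + 1) = 0 := by
  rw [d, Category.assoc, S.nx_d, comp_zero]

theorem nx_r (p : ℕ) : S.nx p ≫ S.r p ≫ S.proj p = 𝟙 _ := by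
  rw [nx, Category.assoc, reassoc_of% (S.h p), S.ι_proj]

theorem proj_eq_zero {T : C} {p : ℕ} (x : T ⟶ G p) (hx : x ≫ S.d p = 0) : x ≫ S.proj p = 0 := by
  have h1 : (x ≫ S.d p) ≫ S.r p ≫ S.proj p = 0 := by rw [hx, zero_comp]
  simpa only [d, Category.assoc, S.nx_r, Category.comp_id] using h1

theorem eq_of_d_eq_zero {T : C} {p : ℕ} (x : T ⟶ G p) (hx : x ≫ S.d p = 0) :
    x ≫ (S.piece p).ρ ≫ (S.piece p).j = x := by
  have h1 : (x ≫ S.proj p) ≫ kernel.ι (S.piece p).ρ = 0 := by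
    rw [S.proj_eq_zero x hx, zero_comp]
  rw [Category.assoc, S.proj_ι, Preadditive.comp_sub, Category.comp_id] at h1
  exact (sub_eq_zero.1 h1).symm

/-- Positive degrees are exact. -/
theorem exact (p : ℕ) : (ShortComplex.mk (S.d p) (S.d (p + 1)) (S.d_d p)).Exact := by
  rw [ShortComplex.exact_iff_exact_up_to_refinements]
  intro T x hx
  refine ⟨T, 𝟙 _, inferInstance, x ≫ S.r p ≫ S.proj p ≫ kernel.ι (S.piece p).ρ, ?_⟩
  refine (Category.id_comp x).trans ((S.eq_of_d_eq_zero x hx).symm.trans ?_)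
  simp only [Category.assoc]
  show x ≫ (S.r p ≫ S.proj p) ≫ S.nx p = x ≫ S.r p ≫ S.proj p ≫ kernel.ι (S.piece p).ρ ≫ (S.proj p ≫ S.nx p)
  rw [reassoc_of% (S.ι_proj p), Category.assoc]

/-- Degree zero is the kernel of the first differential. -/
noncomputable def isKernel₀ : IsLimit (KernelFork.ofι S.i₀ (show S.i₀ ≫ S.d 0 = 0 from S.j_d 0)) :=
  have : Mono S.i₀ := (IsSplitMono.mk' ⟨S.r₀, S.h₀⟩).mono
  KernelFork.IsLimit.ofι' _ _ fun k hk => ⟨k ≫ S.r₀, by
    rw [Category.assoc]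
    exact S.eq_of_d_eq_zero k hk⟩

end SplitChain

end Groth.Agent.Et18.Descent0
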