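import Groth.Prelude.Def_SpSeq
import Groth.Agent.Et18.Descent0.SplitRow
import Mathlib.Algebra.Homology.ShortComplex.HomologicalComplex
import Mathlib.Order.Interval.Finset.Basic
import Mathlib.Data.Int.Interval

/-!
# The degenerate spectral sequence of rows given by chains of split monomorphisms
-/

set_option autoImplicit false
set_option linter.all false
set_option backward.isDefEq.respectTransparency.types false
set_option backward.isDefEq.respectTransparency false

universe v u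

open CategoryTheory Limits

namespace Groth.Agent.Et18.Descent0

variable {C : Type u} [Category.{v} C] [Abelian C] {Z : C} (hZ : IsZero Z)
  {A : ℕ → C} {G : ℕ → ℕ → C} (S : ∀ q, SplitChain (A q) (G q))

/-- The terms of the first page. -/
def X1 (Z : C) (G : ℕ → ℕ → C) : ℤ × ℤ → C
  | (Int.ofNat p, Int.ofNat q) => G q p
  | (_, _) => Z

include hZ in
theorem isZero_X1 (i : ℤ × ℤ) (h : i.1 < 0 ∨ i.2 < 0) : IsZero (X1 Z G i) := by
  obtain ⟨p | p, q | q⟩ := i
  · exact absurd h (by simp only [Int.ofNat_eq_natCast]; lia)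
  all_goals exact hZ

/-- The outgoing differential. -/
noncomputable def out1 : ∀ i : ℤ × ℤ, X1 Z G i ⟶ X1 Z G (i + (1, 1 - 1))
  | (Int.ofNat p, Int.ofNat q) => (S q).d p
  | (Int.negSucc _, _) => 0
  | (Int.ofNat _, Int.negSucc _) => 0

/-- The first page. -/
noncomputable def page1 : HomologicalComplex C (ComplexShape.up' ((1, 1 - 1) : ℤ × ℤ)) where
  X := X1 Z G
  d i j := if h : i + (1, 1 - 1) = j then out1 S i ≫ eqToHom (congrArg (X1 Z G) h) else 0
  shape i j h := dif_neg h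
  d_comp_d' i j k h h' := by
    obtain rfl : i + (1, 1 - 1) = j := h
    obtain rfl : i + (1, 1 - 1) + (1, 1 - 1) = k := h'
    rw [dif_pos rfl, dif_pos rfl, eqToHom_refl, eqToHom_refl, Category.comp_id, Category.comp_id]
    obtain ⟨p | p, q | q⟩ := i
    · exact (S q).d_d p
    · exact hZ.eq_of_src _ _
    · exact hZ.eq_of_src _ _
    · exact hZ.eq_of_src _ _

theorem page1_d (p q : ℕ) :
    (page1 hZ S).d ((p : ℤ), (q : ℤ)) (((p + 1 : ℕ) : ℤ), (q : ℤ)) = (S q).d p := by
  refine (dif_pos (?_ : ((p : ℤ), (q : ℤ)) + (1, 1 - 1) = _)).trans ?_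
  · ext <;> simp
  · exact Category.comp_id _

theorem rel1 (p q : ℤ) : (ComplexShape.up' ((1, 1 - 1) : ℤ × ℤ)).Rel (p, q) (p + 1, q) := by
  show (p, q) + (1, 1 - 1) = (p + 1, q)
  ext <;> simp

/-- Degree zero of the first page. -/
noncomputable def homologyZero (q : ℕ) : (page1 hZ S).homology (((0 : ℕ) : ℤ), (q : ℤ)) ≅ A q :=
  let K := page1 hZ S
  let T : ShortComplex C := ShortComplex.mk (0 : Z ⟶ G q 0) ((S q).d 0) zero_comp
  have hi : (ComplexShape.up' ((1, 1 - 1) : ℤ × ℤ)).prev (((0 : ℕ) : ℤ), (q : ℤ)) = (Int.negSucc 0, (q : ℤ)) :=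
    ComplexShape.prev_eq' _ (rel1 (Int.negSucc 0) (q : ℤ))
  have hk : (ComplexShape.up' ((1, 1 - 1) : ℤ × ℤ)).next (((0 : ℕ) : ℤ), (q : ℤ)) = (((1 : ℕ) : ℤ), (q : ℤ)) :=
    ComplexShape.next_eq' _ (rel1 0 (q : ℤ))
  ShortComplex.homologyMapIso (K.isoSc' _ _ _ hi hk ≪≫
      ShortComplex.isoMk (Iso.refl Z) (Iso.refl (G q 0)) (Iso.refl (G q (0 + 1)))
        (hZ.eq_of_src _ _) (by
          refine (Category.id_comp _).trans ?_
          refine Eq.trans ?_ (Category.comp_id _).symm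
          exact (page1_d hZ S 0 q).symm) : K.sc _ ≅ T) ≪≫
    (ShortComplex.HomologyData.ofIsLimitKernelFork T rfl _ (S q).isKernel₀).left.homologyIso

theorem isZero_homology (i : ℤ × ℤ) (h : i.1 < 0 ∨ i.2 < 0 ∨ 0 < i.1) : IsZero ((page1 hZ S).homology i) := by
  rw [← HomologicalComplex.exactAt_iff_isZero_homology]
  obtain ⟨p | p, q | q⟩ := i
  · match p with
    | 0 => exact absurd h (by simp only [Int.ofNat_eq_natCast]; lia)
    | p + 1 =>
      show (page1 hZ S).ExactAt (((p + 1 : ℕ) : ℤ), (q : ℤ))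
      rw [(page1 hZ S).exactAt_iff' ((p : ℤ), (q : ℤ)) (((p + 1 : ℕ) : ℤ), (q : ℤ)) (((p + 1 + 1 : ℕ) : ℤ), (q : ℤ))
        (ComplexShape.prev_eq' _ (by exact_mod_cast rel1 p q)) (ComplexShape.next_eq' _ (by exact_mod_cast rel1 (p + 1 : ℕ) q))]
      refine ShortComplex.exact_of_iso ?_ ((S q).exact p)
      exact ShortComplex.isoMk (Iso.refl (G q p)) (Iso.refl (G q (p + 1))) (Iso.refl (G q (p + 1 + 1)))
        (by refine (Category.id_comp _).trans (Eq.trans ?_ (Category.comp_id _).symm); exact page1_d hZ S p q)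
        (by refine (Category.id_comp _).trans (Eq.trans ?_ (Category.comp_id _).symm); exact page1_d hZ S (p + 1) q)
  all_goals exact ShortComplex.exact_of_isZero_X₂ _ hZ

/-- The terms of the later pages. -/
def X2 (Z : C) (A : ℕ → C) : ℤ × ℤ → C
  | (Int.ofNat 0, Int.ofNat q) => A q
  | (_, _) => Z

include hZ in
theorem isZero_X2 (i : ℤ × ℤ) (h : i.1 < 0 ∨ i.2 < 0 ∨ 0 < i.1) : IsZero (X2 Z A i) := by
  obtain ⟨(_ | p) | p, q | q⟩ := i
  · exact absurd h (by simp)
  all_goals exact hZ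

/-- The later pages. -/
def pageZ (Z : C) (A : ℕ → C) (r : ℤ) : HomologicalComplex C (ComplexShape.up' ((r, 1 - r) : ℤ × ℤ)) where
  X := X2 Z A
  d _ _ := 0
  shape _ _ _ := rfl
  d_comp_d' _ _ _ _ _ := comp_zero

/-- All pages. -/
noncomputable def pages (r : ℤ) : HomologicalComplex C (ComplexShape.up' ((r, 1 - r) : ℤ × ℤ)) :=
  if h : r = 1 then by subst h; exact page1 hZ S else pageZ Z A r

theorem pages_one : pages hZ S 1 = page1 hZ S := dif_pos rfl

theorem pages_of_ne {r : ℤ} (h : r ≠ 1) : pages hZ S r = pageZ Z A r := dif_neg h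

/-- The comparison of the first two pages. -/
noncomputable def isoOne : ∀ i : ℤ × ℤ, (page1 hZ S).homology i ≅ X2 Z A i
  | (Int.ofNat 0, Int.ofNat q) => homologyZero hZ S q
  | (Int.ofNat (_ + 1), Int.ofNat _) => (isZero_homology hZ S _ (Or.inr (Or.inr (Int.natCast_pos.2 (Nat.succ_pos _))))).iso hZ
  | (Int.negSucc _, q) => (isZero_homology hZ S _ (Or.inl (Int.negSucc_lt_zero _))).iso
      (isZero_X2 hZ _ (Or.inl (Int.negSucc_lt_zero _)))
  | (Int.ofNat p, Int.negSucc _) => (isZero_homology hZ S _ (Or.inr (Or.inl (Int.negSucc_lt_zero _)))).iso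
      (isZero_X2 hZ _ (Or.inr (Or.inl (Int.negSucc_lt_zero _))))

/-- The homology of a later page. -/
noncomputable def isoZ (r : ℤ) (i : ℤ × ℤ) : (pageZ Z A r).homology i ≅ X2 Z A i :=
  (ShortComplex.HomologyData.ofZeros ((pageZ Z A r).sc i) rfl rfl).left.homologyIso

/-- The spectral sequence. -/
noncomputable def spectralSequence : CohomologicalSpectralSequence C 1 where
  page r _ := pages hZ S r
  iso r r' i hrr' hr :=
    if h : r = 1 then by
      subst h
      exact (HomologicalComplex.homologyFunctor C _ i).mapIso (eqToIso (pages_one hZ S)) ≪≫ isoOne hZ S i ≪≫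
        (HomologicalComplex.eval C _ i).mapIso (eqToIso (pages_of_ne hZ S (show r' ≠ 1 by omega)).symm)
    else
      (HomologicalComplex.homologyFunctor C _ i).mapIso (eqToIso (pages_of_ne hZ S h)) ≪≫ isoZ r i ≪≫
        (HomologicalComplex.eval C _ i).mapIso (eqToIso (pages_of_ne hZ S (show r' ≠ 1 by omega)).symm)

theorem stationaryAt (i : ℤ × ℤ) : SpSeq.StationaryAt (spectralSequence hZ S) i 2 := by
  refine ⟨by norm_num, fun r' h₀ hr => ?_⟩
  show (pages hZ S r').d _ _ = 0 ∧ (pages hZ S r').d _ _ = 0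
  rw [pages_of_ne hZ S (by omega : r' ≠ 1)]
  exact ⟨rfl, rfl⟩

/-- The identification of the second page. -/
noncomputable def pageTwoX (i : ℤ × ℤ) : ((spectralSequence hZ S).page 2 (by norm_num)).X i ≅ X2 Z A i :=
  (HomologicalComplex.eval C _ i).mapIso (eqToIso (pages_of_ne hZ S (show (2 : ℤ) ≠ 1 by norm_num)))

/-- The identification of the first page. -/
noncomputable def pageOneX (i : ℤ × ℤ) : ((spectralSequence hZ S).page 1 le_rfl).X i ≅ X1 Z G i :=
  (HomologicalComplex.eval C _ i).mapIso (eqToIso (pages_one hZ S))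

variable {H : ℤ → C} (eH : ∀ n : ℕ, H n ≅ A n) (hH : ∀ n : ℤ, n < 0 → IsZero (H n))

/-- The filtration concentrated in step zero. -/
noncomputable def fil0 (H : ℤ → C) (n p : ℤ) : Subobject (H n) := if p ≤ 0 then ⊤ else ⊥

theorem fil0_anti (H : ℤ → C) (n : ℤ) : Antitone (fil0 H n) := by
  intro p q h
  unfold fil0
  split_ifs with h1 h2
  · exact le_rfl
  · omega
  · exact bot_le
  · exact le_rfl

theorem isZero_gr (H : ℤ → C) (n p : ℤ) (hp : p ≠ 0) :
    IsZero (SpSeq.grPiece (fil0 H n) (fil0_anti H n) p) := by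
  have e : fil0 H n p ≤ fil0 H n (p + 1) := by
    unfold fil0
    split_ifs with h1 h2
    · exact le_rfl
    · omega
    · exact bot_le
    · exact le_rfl
  have : IsIso ((fil0 H n (p + 1)).ofLE (fil0 H n p) (fil0_anti H n (Int.le_add_one le_rfl))) :=
    ⟨Subobject.ofLE _ _ e, by simp, by simp⟩
  exact isZero_cokernel_of_epi _

/-- The only graded piece. -/
noncomputable def grZero (H : ℤ → C) (n p : ℤ) (hp : p = 0) :
    SpSeq.grPiece (fil0 H n) (fil0_anti H n) p ≅ H n :=
  have h1 : fil0 H n p = ⊤ := by rw [fil0, if_pos (by omega)]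
  have h2 : fil0 H n (p + 1) = ⊥ := by rw [fil0, if_neg (by omega)]
  have h0 : IsZero (fil0 H n (p + 1) : C) :=
    (isZero_zero C).of_iso (eqToIso (congrArg (fun T : Subobject (H n) => (T : C)) h2) ≪≫ Subobject.botCoeIsoZero)
  cokernelIsoOfEq (h0.eq_of_src _ (0 : (fil0 H n (p + 1) : C) ⟶ (fil0 H n p : C))) ≪≫ cokernelZeroIsoTarget ≪≫
    eqToIso (congrArg (fun T : Subobject (H n) => (T : C)) h1) ≪≫ asIso (⊤ : Subobject (H n)).arrow

include hH in
/-- The abutment. -/
noncomputable def abutment : SpSeq.Abutment (spectralSequence hZ S) H where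
  fil := fil0 H
  anti := fil0_anti H
  rk _ := 2
  stat := stationaryAt hZ S
  β
    | (Int.ofNat 0, Int.ofNat q) => pageTwoX hZ S _ ≪≫ (eH q).symm ≪≫
        eqToIso (congrArg H (show (q : ℤ) = (0 : ℤ) + q from (zero_add _).symm)) ≪≫ (grZero H _ 0 rfl).symm
    | (Int.ofNat 0, Int.negSucc q) => pageTwoX hZ S _ ≪≫ (isZero_X2 hZ _ (Or.inr (Or.inl (Int.negSucc_lt_zero q)))).iso
        ((hH _ (by show (0 : ℤ) + Int.negSucc q < 0; rw [zero_add]; exact Int.negSucc_lt_zero q)).of_iso (grZero H _ 0 rfl))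
    | (Int.ofNat (p + 1), q) => pageTwoX hZ S _ ≪≫ (isZero_X2 hZ _ (Or.inr (Or.inr (Int.natCast_pos.2 (Nat.succ_pos p))))).iso
        (isZero_gr H _ _ (Int.natCast_ne_zero.2 (Nat.succ_ne_zero p)))
    | (Int.negSucc p, q) => pageTwoX hZ S _ ≪≫ (isZero_X2 hZ _ (Or.inl (Int.negSucc_lt_zero p))).iso
        (isZero_gr H _ _ (Int.negSucc_lt_zero p).ne)

theorem abutment_isFinite (n : ℤ) : (abutment hZ S eH hH).IsFinite n :=
  ⟨⟨0, show fil0 H n 0 = ⊤ from if_pos le_rfl⟩, ⟨1, show fil0 H n 1 = ⊥ from if_neg (by norm_num)⟩⟩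

theorem isBounded : SpSeq.IsBounded (spectralSequence hZ S) := by
  intro n
  refine (Set.finite_Icc (0 : ℤ) n).subset fun p hp => ?_
  by_contra hc
  refine hp ((isZero_X1 hZ (p, n - p) ?_).of_iso (pageOneX hZ S _))
  simp only [Set.mem_Icc] at hc
  show p < 0 ∨ n - p < 0
  omega

end Groth.Agent.Et18.Descent0
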